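import Mathlib
import Groth.Prelude.Def_CAlgX

/-!
# Models of essentially finitely presented algebras and their modules
-/

set_option autoImplicit false
set_option linter.unusedSectionVars false

noncomputable section

universe u

open scoped TensorProduct

namespace Groth.Agent.EssFPLib

variable {R S S' : Type u} [CommRing R] [CommRing S] [CommRing S'] [Algebra R S] [Algebra S S'] [Algebra R S']
  [IsScalarTower R S S']

/-- An essentially finitely presented algebra is essentially finitely presented over intermediate ones. -/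
theorem isEssFinitePresentation_of_tower (hS : CAlgX.IsEssFinitePresentation R S)
    (hS' : CAlgX.IsEssFinitePresentation R S') : CAlgX.IsEssFinitePresentation S S' := by
  classical
  obtain ⟨A, _, _, _, _, MA, hA, _⟩ := hS
  obtain ⟨C, _, _, _, _, MC, hC, _⟩ := hS'
  obtain ⟨n, πA, hπA, -⟩ := Algebra.FinitePresentation.out (R := R) (A := A)
  let P := S ⊗[R] C
  let x : Fin n → S := fun i => algebraMap A S (πA (MvPolynomial.X i))
  choose cu hcu using fun i => IsLocalization.surj MC (algebraMap S S' (x i))
  let rel : Fin n → P := fun i =>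
    x i ⊗ₜ[R] ((cu i).2 : C) - (1 : S) ⊗ₜ[R] (cu i).1
  let J := Ideal.span (Set.range rel)
  let B := P ⧸ J
  haveI : Algebra.FinitePresentation S B := .quotient (Submodule.fg_span (Set.finite_range rel))
  let φ : P →ₐ[S] S' := Algebra.TensorProduct.lift (Algebra.ofId S S') (IsScalarTower.toAlgHom R C S')
    fun _ _ => Commute.all _ _
  have hφt : ∀ (a : S) (c : C), φ (a ⊗ₜ[R] c) = algebraMap S S' a * algebraMap C S' c := fun a c => rfl
  have hφJ : ∀ z ∈ J, φ z = 0 := fun z hz => by
    refine RingHom.mem_ker.1 ((Ideal.span_le.2 ?_ : J ≤ RingHom.ker φ.toRingHom) hz)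
    rintro _ ⟨i, rfl⟩
    show φ (rel i) = 0
    rw [show rel i = _ from rfl, map_sub, hφt, hφt, hcu, map_one, one_mul, sub_self]
  let ψ : B →ₐ[S] S' := Ideal.Quotient.liftₐ J φ hφJ
  letI : Algebra B S' := ψ.toRingHom.toAlgebra
  haveI : IsScalarTower S B S' := .of_algebraMap_eq fun s => (ψ.commutes s).symm
  let T : Submonoid B := (IsUnit.submonoid S').comap (algebraMap B S')
  refine ⟨B, inferInstance, inferInstance, inferInstance, inferInstance, T, inferInstance, ?_⟩
  let ιC : C →+* B := (Ideal.Quotient.mk J).comp (Algebra.TensorProduct.includeRight : C →ₐ[R] P).toRingHom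
  have hιC : ∀ c, algebraMap B S' (ιC c) = algebraMap C S' c := fun c => by
    show φ ((1 : S) ⊗ₜ[R] c) = _
    rw [hφt, map_one, one_mul]
  have hιT : ∀ c ∈ MC, ιC c ∈ T := fun c hc => by
    show IsUnit (algebraMap B S' (ιC c))
    rw [hιC]
    exact IsLocalization.map_units S' (⟨c, hc⟩ : MC)
  obtain ⟨L, _, _, _⟩ : ∃ (L : Type u) (_ : CommRing L) (_ : Algebra B L), IsLocalization T L :=
    ⟨Localization T, inferInstance, inferInstance, inferInstance⟩
  letI : Algebra S L := ((algebraMap B L).comp (algebraMap S B)).toAlgebra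
  have hunit : ∀ c : MC, IsUnit (((algebraMap B L).comp ιC) c) :=
    fun c => IsLocalization.map_units L (⟨ιC c.1, hιT c.1 c.2⟩ : T)
  let χ := IsLocalization.lift (M := MC) (S := S') (P := L) (g := (algebraMap B L).comp ιC) hunit
  let π' := IsLocalization.lift (S := L) (P := S') (M := T) (g := algebraMap B S') fun t => t.2
  have h1 : ∀ z, π' (χ z) = z := fun z => by
    refine RingHom.congr_fun (?_ : π'.comp χ = RingHom.id S') z
    refine IsLocalization.ringHom_ext MC (RingHom.ext fun c => ?_)
    simp [χ, π', hιC]
  have h2 : ∀ b, χ (algebraMap B S' b) = algebraMap B L b := by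
    have hS : ∀ s : S, χ (algebraMap S S' s) = algebraMap S L s := by
      refine fun s => RingHom.congr_fun (?_ : χ.comp (algebraMap S S') = algebraMap S L) s
      refine IsLocalization.ringHom_ext MA (RingHom.ext fun a => ?_)
      obtain ⟨w, rfl⟩ := hπA a
      induction w using MvPolynomial.induction_on with
      | C r =>
        show χ (algebraMap S S' (algebraMap A S (πA (algebraMap R _ r)))) = algebraMap S L (algebraMap A S (πA (algebraMap R _ r)))
        rw [πA.commutes, ← IsScalarTower.algebraMap_apply R A S, ← IsScalarTower.algebraMap_apply R S S',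
          IsScalarTower.algebraMap_apply R C S', IsLocalization.lift_eq, RingHom.comp_apply]
        rw [show algebraMap S L (algebraMap R S r) = algebraMap B L (algebraMap S B (algebraMap R S r)) from rfl]
        congr 1
        show Ideal.Quotient.mk J ((1 : S) ⊗ₜ[R] algebraMap R C r) = Ideal.Quotient.mk J (algebraMap R S r ⊗ₜ[R] (1 : C))
        rw [Algebra.algebraMap_eq_smul_one, Algebra.algebraMap_eq_smul_one, TensorProduct.tmul_smul, TensorProduct.smul_tmul']
      | add p q hp hq => simp only [map_add, RingHom.comp_apply] at *; rw [hp, hq]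
      | mul_X p i hp =>
        simp only [map_mul, RingHom.comp_apply] at *
        rw [hp]
        congr 1
        show χ (algebraMap S S' (x i)) = algebraMap S L (x i)
        have hu : IsUnit (algebraMap B L (ιC (cu i).2)) :=
          IsLocalization.map_units L (⟨_, hιT _ (cu i).2.2⟩ : T)
        refine hu.mul_right_cancel ?_
        rw [show algebraMap B L (ιC (cu i).2) = χ (algebraMap C S' ((cu i).2 : C)) by simp [χ],
          ← map_mul, hcu, show χ (algebraMap C S' (cu i).1) = algebraMap B L (ιC (cu i).1) by simp [χ],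
          show χ (algebraMap C S' ((cu i).2 : C)) = algebraMap B L (ιC (cu i).2) by simp [χ],
          show algebraMap S L (x i) = algebraMap B L (algebraMap S B (x i)) from rfl, ← map_mul]
        congr 1
        show _ = Ideal.Quotient.mk J (x i ⊗ₜ[R] (1 : C)) * Ideal.Quotient.mk J ((1 : S) ⊗ₜ[R] ((cu i).2 : C))
        rw [← map_mul, Algebra.TensorProduct.tmul_mul_tmul, one_mul, mul_one, eq_comm]
        exact Ideal.Quotient.eq.2 (Ideal.subset_span ⟨i, rfl⟩)
    intro b
    obtain ⟨p, rfl⟩ := Ideal.Quotient.mk_surjective b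
    induction p using TensorProduct.induction_on with
    | zero => simp
    | add p q hp hq => simp only [map_add, hp, hq]
    | tmul s c =>
      rw [show (s ⊗ₜ[R] c : P) = s ⊗ₜ 1 * 1 ⊗ₜ c by simp, map_mul, map_mul, map_mul, map_mul]
      congr 1
      · show χ (algebraMap B S' (algebraMap S B s)) = algebraMap B L (algebraMap S B s)
        rw [← IsScalarTower.algebraMap_apply, hS]
        rfl
      · show χ (algebraMap B S' (ιC c)) = algebraMap B L (ιC c)
        rw [hιC]
        simp [χ]
  have h3 : ∀ z, χ (π' z) = z := fun z => by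
    refine RingHom.congr_fun (?_ : χ.comp π' = RingHom.id L) z
    refine IsLocalization.ringHom_ext T (RingHom.ext fun b => ?_)
    simp [π', h2]
  exact IsLocalization.isLocalization_of_algEquiv T
    (AlgEquiv.ofRingEquiv (f := RingEquiv.ofRingHom π' χ (RingHom.ext h1) (RingHom.ext h3))
      fun b => IsLocalization.lift_eq _ b : L ≃ₐ[B] S')

/-- Finitely presented modules over a localization descend. -/
theorem exists_module_model {B L : Type u} [CommRing B] [CommRing L] [Algebra B L] (T : Submonoid B)
    [IsLocalization T L] (M : Type u) [AddCommGroup M] [Module L M] [Module B M] [IsScalarTower B L M]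
    [Module.FinitePresentation L M] :
    ∃ (M₀ : Type u) (_ : AddCommGroup M₀) (_ : Module B M₀) (_ : Module.FinitePresentation B M₀)
      (g : M₀ →ₗ[B] M), IsLocalizedModule T g := by
  classical
  obtain ⟨a, K, e, hK⟩ := Module.FinitePresentation.exists_fin L M
  obtain ⟨b, w, hw⟩ := Submodule.fg_iff_exists_fin_generating_family.mp hK
  obtain ⟨c, hc⟩ := IsLocalization.exist_integer_multiples_of_finite T fun p : Fin b × Fin a => w p.1 p.2
  choose num hnum using hc
  let col : Fin b → Fin a → B := fun j i => num (j, i)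
  let W : Submodule B (Fin a → B) := Submodule.span B (Set.range col)
  let al : (Fin a → B) →ₗ[B] (Fin a → L) := LinearMap.pi fun i => Algebra.linearMap B L ∘ₗ LinearMap.proj i
  have hcu : IsUnit (algebraMap B L c) := IsLocalization.map_units L c
  have hcol : ∀ j, al (col j) = algebraMap B L c • w j := fun j => funext fun i => by
    show algebraMap B L (num (j, i)) = algebraMap B L c * w j i
    rw [hnum (j, i), Algebra.smul_def]
  let q : (Fin a → L) →ₗ[L] M := e.symm.toLinearMap ∘ₗ K.mkQ
  have hq0 : ∀ v, q v = 0 ↔ v ∈ K := fun v => by simp [q]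
  let g0 : (Fin a → B) →ₗ[B] M := q.restrictScalars B ∘ₗ al
  have hg0 : W ≤ LinearMap.ker g0 := Submodule.span_le.2 (by
    rintro _ ⟨j, rfl⟩
    show q (al (col j)) = 0
    rw [hcol, map_smul, (hq0 _).2 (hw ▸ Submodule.subset_span ⟨j, rfl⟩), smul_zero])
  haveI : Module.FinitePresentation B ((Fin a → B) ⧸ W) :=
    Module.finitePresentation_of_free_of_surjective W.mkQ W.mkQ_surjective
      (by rw [Submodule.ker_mkQ]; exact Submodule.fg_span (Set.finite_range col))
  refine ⟨(Fin a → B) ⧸ W, inferInstance, inferInstance, inferInstance, W.liftQ g0 hg0, ?_⟩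
  haveI hal : IsLocalizedModule T al := by
    haveI : ∀ i : Fin a, IsLocalizedModule T (Algebra.linearMap B L) := fun _ => inferInstance
    exact inferInstanceAs (IsLocalizedModule T (LinearMap.pi fun i => Algebra.linearMap B L ∘ₗ LinearMap.proj i))
  refine ⟨fun t => ?_, fun y => ?_, fun {x x'} h => ?_⟩
  · obtain ⟨u, hu⟩ := IsLocalization.map_units L t
    rw [Module.End.isUnit_iff]
    refine ⟨fun y z h => ?_, fun y => ⟨(u⁻¹ : Lˣ) • y, ?_⟩⟩
    · have h' : (t : B) • y = (t : B) • z := h
      rw [← algebraMap_smul L (t : B) y, ← algebraMap_smul L (t : B) z, ← hu] at h'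
      have := congrArg (fun v => ((u⁻¹ : Lˣ) : L) • v) h'
      simpa only [smul_smul, Units.inv_mul, one_smul] using this
    · show (t : B) • (u⁻¹ : Lˣ) • y = y
      rw [← algebraMap_smul L (t : B), ← hu, Units.smul_def, smul_smul, Units.mul_inv, one_smul]
  · obtain ⟨v, hv⟩ := (K.mkQ_surjective (e y))
    obtain ⟨⟨x, t⟩, hx⟩ := IsLocalizedModule.surj T al v
    refine ⟨⟨W.mkQ x, t⟩, ?_⟩
    show t • y = g0 x
    rw [show g0 x = q (al x) from rfl, ← hx, Submonoid.smul_def, Submonoid.smul_def, LinearMap.map_smul_of_tower]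
    congr 1
    show y = e.symm (K.mkQ v)
    rw [hv, e.symm_apply_apply]
  · obtain ⟨x, rfl⟩ := W.mkQ_surjective x
    obtain ⟨x', rfl⟩ := W.mkQ_surjective x'
    have hmem : al (x - x') ∈ K := by
      rw [← hq0]
      show g0 (x - x') = 0
      rw [map_sub, sub_eq_zero]
      exact h
    obtain ⟨lam, hlam⟩ := (Submodule.mem_span_range_iff_exists_fun L).1 (hw.symm ▸ hmem)
    obtain ⟨s, hs⟩ := IsLocalization.exist_integer_multiples_of_finite T lam
    choose nl hnl using hs
    have hcomb : al (∑ j, nl j • col j) = al ((s * c : T) • (x - x')) := by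
      rw [Submonoid.smul_def, LinearMap.map_smul_of_tower, map_sum, ← hlam, Finset.smul_sum]
      refine Finset.sum_congr rfl fun j _ => ?_
      rw [LinearMap.map_smul_of_tower, hcol, ← algebraMap_smul L (nl j), hnl j, ← algebraMap_smul L ((s * c : T) : B),
        smul_smul, smul_smul, Submonoid.coe_mul, map_mul]
      funext i
      simp only [Pi.smul_apply, smul_eq_mul, Algebra.smul_def]
      ring
    obtain ⟨s', hs'⟩ := IsLocalizedModule.exists_of_eq (S := T) (f := al) hcomb
    refine ⟨s' * (s * c), ?_⟩
    rw [← sub_eq_zero, ← smul_sub, ← map_sub, mul_smul, Submonoid.smul_def, Submonoid.smul_def,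
      ← W.mkQ.map_smul, ← W.mkQ.map_smul, Submodule.mkQ_apply, Submodule.Quotient.mk_eq_zero]
    simp only [Submonoid.smul_def] at hs'
    rw [← hs']
    exact Submodule.smul_mem _ _ (Submodule.sum_mem _ fun j _ => Submodule.smul_mem _ _ (Submodule.subset_span ⟨j, rfl⟩))

/-- In a local localization one may localize at a prime. -/
theorem isLocalization_atPrime {B L : Type u} [CommRing B] [CommRing L] [Algebra B L] [IsLocalRing L] (T : Submonoid B)
    [IsLocalization T L] :
    IsLocalization ((IsLocalRing.maximalIdeal L).comap (algebraMap B L)).primeCompl L :=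
  IsLocalization.of_le (M := T) _ (fun t ht h => h (IsLocalization.map_units L (⟨t, ht⟩ : T)))
    fun r hr => IsLocalRing.notMem_maximalIdeal.1 hr

end Groth.Agent.EssFPLib
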