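import Mathlib
import Groth.Agent.EssFPLib.Model
import Groth.Agent.FlatLocus.Syzygy
import Groth.Agent.FlatLocus.Main
import Groth.Agent.FlatCx.Ext

/-!
# Injectivity with flat cokernel from the closed fibre, essentially finitely presented case
-/

set_option autoImplicit false
set_option linter.unusedSectionVars false
set_option linter.style.haveILetI false
set_option backward.isDefEq.respectTransparency false
set_option backward.defeqAttrib.useBackward true

noncomputable section

universe u

open MvPolynomial Groth.Agent.GenFree Groth.Agent.FlatLocus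

open scoped TensorProduct

namespace Groth.Agent.EssFPLib

/-- Where the cokernel is flat, the kernel is finitely generated up to localisation. -/
theorem exists_ker_generators {R S M' M : Type u} [CommRing R] [CommRing S] [Algebra R S]
    [Algebra.FinitePresentation R S] [AddCommGroup M] [Module S M] [Module R M]
    [IsScalarTower R S M] [Module.FinitePresentation S M] [AddCommGroup M'] [Module S M']
    [Module.Finite S M'] (u : M' →ₗ[S] M) (q : PrimeSpectrum S)
    (hqflat : Module.Flat R (LocalizedModule q.asIdeal.primeCompl (M ⧸ LinearMap.range u))) :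
    ∃ G : Finset M', (∀ m ∈ G, u m = 0) ∧
      ∀ m, u m = 0 → ∃ s ∉ q.asIdeal, s • m ∈ Submodule.span S (G : Set M') := by
  classical
  obtain ⟨n, π, hπ, hker⟩ := Algebra.FinitePresentation.out (R := R) (A := S)
  letI : Algebra (MvPolynomial (Fin n) R) S := π.toRingHom.toAlgebra
  haveI : IsScalarTower R (MvPolynomial (Fin n) R) S :=
    .of_algebraMap_eq fun r => (π.commutes r).symm
  letI : Module (MvPolynomial (Fin n) R) M := Module.compHom M π.toRingHom
  haveI : IsScalarTower (MvPolynomial (Fin n) R) S M := .of_algebraMap_smul fun _ _ => rfl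
  haveI : IsScalarTower R (MvPolynomial (Fin n) R) M := .of_algebraMap_smul fun r m => by
    show π (algebraMap R (MvPolynomial (Fin n) R) r) • m = r • m
    rw [π.commutes, algebraMap_smul]
  letI : Module (MvPolynomial (Fin n) R) M' := Module.compHom M' π.toRingHom
  haveI : IsScalarTower (MvPolynomial (Fin n) R) S M' := .of_algebraMap_smul fun _ _ => rfl
  haveI : Module.FinitePresentation (MvPolynomial (Fin n) R) S :=
    Module.finitePresentation_of_surjective (Algebra.linearMap (MvPolynomial (Fin n) R) S) hπ hker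
  haveI : Module.FinitePresentation (MvPolynomial (Fin n) R) M :=
    Module.FinitePresentation.trans (R := MvPolynomial (Fin n) R) (S := S) (M := M)
  haveI : Module.Finite (MvPolynomial (Fin n) R) M' := Module.Finite.trans S M'
  obtain ⟨a, K, e, hK⟩ := Module.FinitePresentation.exists_fin (MvPolynomial (Fin n) R) M
  obtain ⟨b, ψ, hψ⟩ := Module.Finite.exists_fin' (MvPolynomial (Fin n) R) M'
  obtain ⟨t, w, hw⟩ := Submodule.fg_iff_exists_fin_generating_family.mp hK
  let φ : FreeMod R a n →ₗ[MvPolynomial (Fin n) R] M := e.symm.toLinearMap ∘ₗ K.mkQ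
  have hφ : Function.Surjective φ := e.symm.surjective.comp K.mkQ_surjective
  have hφ0 : ∀ x, φ x = 0 ↔ x ∈ K := fun x => by
    simp [φ]
  let uP := u.restrictScalars (MvPolynomial (Fin n) R)
  choose d hd using fun j : Fin b => hφ (uP (ψ (Pi.single j 1)))
  let v : Fin (t + b) → FreeMod R a n := Fin.append w d
  let μ : FreeMod R (t + b) n →ₗ[MvPolynomial (Fin n) R] M' :=
    ψ ∘ₗ LinearMap.funLeft _ _ (Fin.natAdd t)
  have hψsum : ∀ x : Fin b → MvPolynomial (Fin n) R, ψ x = ∑ j, x j • ψ (Pi.single j 1) := by
    intro x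
    conv_lhs => rw [pi_eq_sum_univ x]
    rw [map_sum]
    refine Finset.sum_congr rfl fun j _ => ?_
    rw [map_smul]
    congr 2
    ext i
    simp [Pi.single_apply, eq_comm]
  have hcomb : ∀ c, φ (combMap v c) = uP (μ c) := by
    intro c
    rw [show μ c = ψ (fun j => c (Fin.natAdd t j)) from rfl, hψsum, map_sum, combMap,
      Fintype.linearCombination_apply, Fin.sum_univ_add, map_add, map_sum, map_sum]
    simp only [v, Fin.append_left, Fin.append_right, map_smul, hd]
    rw [show ∑ i, c (Fin.castAdd b i) • φ (w i) = 0 from Finset.sum_eq_zero fun i _ => by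
      rw [(hφ0 _).mpr (hw ▸ Submodule.subset_span ⟨i, rfl⟩), smul_zero], zero_add]
  have hsurj : ∀ m' x, φ x = uP m' → ∃ c, combMap v c = x ∧ μ c = m' := by
    intro m' x hx
    obtain ⟨y, rfl⟩ := hψ m'
    have hxK : x - ∑ j, y j • d j ∈ K := by
      rw [← hφ0, map_sub, map_sum, hx, hψsum, map_sum]
      simp [hd]
    rw [← hw, Submodule.mem_span_range_iff_exists_fun] at hxK
    obtain ⟨cw, hcw⟩ := hxK
    refine ⟨Fin.append cw y, ?_, ?_⟩
    · rw [combMap, Fintype.linearCombination_apply, Fin.sum_univ_add]
      simp only [v, Fin.append_left, Fin.append_right, hcw, sub_add_cancel]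
    · show ψ (fun j => Fin.append cw y (Fin.natAdd t j)) = ψ y
      simp only [Fin.append_right]
  let K' := Submodule.span (MvPolynomial (Fin n) R) (Set.range v)
  let mk : M →ₗ[MvPolynomial (Fin n) R] M ⧸ LinearMap.range u :=
    (LinearMap.range u).mkQ.restrictScalars (MvPolynomial (Fin n) R)
  have hmk : LinearMap.ker (mk ∘ₗ φ) = K' := by
    ext x
    rw [LinearMap.mem_ker, show K' = LinearMap.range (combMap v) from (range_combMap v).symm]
    constructor
    · intro h
      obtain ⟨m', hm'⟩ := (Submodule.Quotient.mk_eq_zero _).mp h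
      obtain ⟨c, hc, -⟩ := hsurj m' x hm'.symm
      exact ⟨c, hc⟩
    · rintro ⟨c, rfl⟩
      exact (Submodule.Quotient.mk_eq_zero _).mpr ⟨μ c, (hcomb c).symm⟩
  let eC : (FreeMod R a n ⧸ K') ≃ₗ[MvPolynomial (Fin n) R] (M ⧸ LinearMap.range u) :=
    (Submodule.quotEquivOfEq _ _ hmk.symm).trans (LinearMap.quotKerEquivOfSurjective (mk ∘ₗ φ)
      ((LinearMap.range u).mkQ_surjective.comp hφ))
  have hflat : ∀ q : PrimeSpectrum S,
      Module.Flat R (LocalizedModule q.asIdeal.primeCompl (M ⧸ LinearMap.range u)) ↔
        PrimeSpectrum.comap π.toRingHom q ∈ flatSet K' := by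
    intro q
    let P := PrimeSpectrum.comap π.toRingHom q
    have hP : Algebra.algebraMapSubmonoid S P.asIdeal.primeCompl = q.asIdeal.primeCompl := by
      ext x
      constructor
      · rintro ⟨y, hy, rfl⟩; exact hy
      · intro hx
        obtain ⟨y, rfl⟩ := hπ x
        exact ⟨y, hx, rfl⟩
    haveI : IsLocalizedModule (Algebra.algebraMapSubmonoid S P.asIdeal.primeCompl)
        (LocalizedModule.mkLinearMap q.asIdeal.primeCompl (M ⧸ LinearMap.range u)) := by
      rw [hP]; infer_instance
    let g : (M ⧸ LinearMap.range u) →ₗ[MvPolynomial (Fin n) R]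
        LocalizedModule q.asIdeal.primeCompl (M ⧸ LinearMap.range u) :=
      (LocalizedModule.mkLinearMap q.asIdeal.primeCompl _).restrictScalars _
    haveI : IsLocalizedModule P.asIdeal.primeCompl g := IsLocalizedModule.restrictScalars _ _
    haveI : IsLocalizedModule P.asIdeal.primeCompl (g ∘ₗ eC.toLinearMap) :=
      IsLocalizedModule.of_linearEquiv_right _ _ _
    rw [mem_flatSet_iff]
    exact flat_iff_rel K' _ (g ∘ₗ eC.toLinearMap)
  obtain ⟨G, h, hhq, hG, hgen⟩ := exists_syzygy_generators v _ ((hflat q).mp hqflat)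
  refine ⟨G.image μ, fun m hm => ?_, fun m hm => ?_⟩
  · obtain ⟨σ, hσ, rfl⟩ := Finset.mem_image.mp hm
    show uP (μ σ) = 0
    rw [← hcomb, hG σ hσ, map_zero]
  obtain ⟨c, hc, rfl⟩ := hsurj m 0 (by rw [map_zero]; exact hm.symm)
  obtain ⟨N, hN⟩ := hgen c hc
  refine ⟨π (h ^ N), fun hmem => hhq ?_, ?_⟩
  · rw [map_pow] at hmem
    exact q.isPrime.mem_of_pow_mem N hmem
  · rw [show π (h ^ N) • μ c = h ^ N • μ c from rfl, ← map_smul]
    have := Submodule.mem_map_of_mem (f := μ) hN
    rw [Submodule.map_span, ← Finset.coe_image] at this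
    exact Submodule.span_le_restrictScalars (MvPolynomial (Fin n) R) S _ this

theorem rid_natural {R P P' : Type u} [CommRing R] [AddCommGroup P] [Module R P] [AddCommGroup P'] [Module R P']
    {m : Ideal R} (f : P →ₗ[R] P') (z : P ⊗[R] m) :
    TensorProduct.rid R P' (m.subtype.lTensor P' (f.rTensor m z)) = f (TensorProduct.rid R P (m.subtype.lTensor P z)) := by
  induction z using TensorProduct.induction_on with
  | zero => simp
  | add a b ha hb => simp only [map_add, ha, hb]
  | tmul a b => simp

theorem rid_mem {R S P : Type u} [CommRing R] [CommRing S] [Algebra R S] [AddCommGroup P] [Module S P] [Module R P]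
    [IsScalarTower R S P] (m : Ideal R) (y : P) (hy : ∃ z : P ⊗[R] m, TensorProduct.rid R P (m.subtype.lTensor P z) = y) :
    y ∈ m.map (algebraMap R S) • (⊤ : Submodule S P) := by
  obtain ⟨z, rfl⟩ := hy
  induction z using TensorProduct.induction_on with
  | zero => simp
  | add a b ha hb => simp only [map_add]; exact add_mem ha hb
  | tmul a b =>
    simp only [LinearMap.lTensor_tmul, Submodule.subtype_apply, TensorProduct.rid_tmul]
    rw [← algebraMap_smul S (b : R) a]
    exact Submodule.smul_mem_smul (Ideal.mem_map_of_mem _ b.2) trivial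

theorem exists_rid_eq {R S P : Type u} [CommRing R] [CommRing S] [Algebra R S] [AddCommGroup P] [Module S P] [Module R P]
    [IsScalarTower R S P] (m : Ideal R) {y : P} (hy : y ∈ m.map (algebraMap R S) • (⊤ : Submodule S P)) :
    ∃ z : P ⊗[R] m, TensorProduct.rid R P (m.subtype.lTensor P z) = y := by
  replace hy : y ∈ (m • ⊤ : Submodule R P) := by
    rwa [← Submodule.restrictScalars_mem R, Ideal.smul_restrictScalars, Submodule.restrictScalars_top] at hy
  induction hy using Submodule.smul_induction_on' with
  | smul r hr n _ => exact ⟨n ⊗ₜ ⟨r, hr⟩, by simp⟩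
  | add a _ b _ ha hb =>
    obtain ⟨z, rfl⟩ := ha
    obtain ⟨z', rfl⟩ := hb
    exact ⟨z + z', by simp only [map_add]⟩

/-- Injectivity modulo the maximal ideal of the base gives injectivity with flat cokernel. -/
theorem injective_and_flat_coker {R S M N : Type u} [CommRing R] [CommRing S] [IsLocalRing R]
    [IsLocalRing S] [Algebra R S] [IsLocalHom (algebraMap R S)] (hS : CAlgX.IsEssFinitePresentation R S)
    [AddCommGroup M] [Module S M] [Module R M] [IsScalarTower R S M] [Module.FinitePresentation S M]
    [AddCommGroup N] [Module S N] [Module R N] [IsScalarTower R S N] [Module.FinitePresentation S N] [Module.Flat R N]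
    (u : M →ₗ[S] N)
    (hu : ∀ x : M, u x ∈ (IsLocalRing.maximalIdeal R).map (algebraMap R S) • (⊤ : Submodule S N) →
      x ∈ (IsLocalRing.maximalIdeal R).map (algebraMap R S) • (⊤ : Submodule S M)) :
    Function.Injective u ∧ Module.Flat R (N ⧸ LinearMap.range u) := by
  classical
  obtain ⟨B, _, _, _, _, T, hB, _⟩ := hS
  let q : Ideal B := (IsLocalRing.maximalIdeal S).comap (algebraMap B S)
  haveI : q.IsPrime := Ideal.IsPrime.comap _
  haveI hSq : IsLocalization q.primeCompl S := isLocalization_atPrime T
  letI : Module B M := Module.compHom M (algebraMap B S)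
  haveI : IsScalarTower B S M := .of_algebraMap_smul fun _ _ => rfl
  haveI : IsScalarTower R B M := .of_algebraMap_smul fun r x => by
    show algebraMap B S (algebraMap R B r) • x = r • x
    rw [← IsScalarTower.algebraMap_apply R B S, algebraMap_smul]
  letI : Module B N := Module.compHom N (algebraMap B S)
  haveI : IsScalarTower B S N := .of_algebraMap_smul fun _ _ => rfl
  haveI : IsScalarTower R B N := .of_algebraMap_smul fun r x => by
    show algebraMap B S (algebraMap R B r) • x = r • x
    rw [← IsScalarTower.algebraMap_apply R B S, algebraMap_smul]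
  let m : Ideal R := IsLocalRing.maximalIdeal R
  have hqm : q.comap (algebraMap R B) = m := by
    rw [Ideal.comap_comap, ← IsScalarTower.algebraMap_eq]
    ext r
    exact ⟨fun h hu => h (hu.map _), fun h hu => h ((isUnit_map_iff (algebraMap R S) r).1 hu)⟩
  obtain ⟨M₀, _, _, _, gM, _⟩ := exists_module_model q.primeCompl M (L := S)
  obtain ⟨N₀, _, _, _, gN, _⟩ := exists_module_model q.primeCompl N (L := S)
  letI : Module R M₀ := Module.compHom M₀ (algebraMap R B)
  haveI : IsScalarTower R B M₀ := .of_algebraMap_smul fun _ _ => rfl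
  letI : Module R N₀ := Module.compHom N₀ (algebraMap R B)
  haveI : IsScalarTower R B N₀ := .of_algebraMap_smul fun _ _ => rfl
  obtain ⟨u₀, s, hus⟩ := Module.FinitePresentation.exists_lift_of_isLocalizedModule q.primeCompl gN
    ((u.restrictScalars B) ∘ₗ gM)
  have hus' : ∀ z, gN (u₀ z) = algebraMap B S s • u (gM z) := fun z => by
    rw [algebraMap_smul]; exact LinearMap.congr_fun hus z
  have hsu : IsUnit (algebraMap B S s) := IsLocalization.map_units S s
  have hrange : (LinearMap.range u₀).localized' S q.primeCompl gN = LinearMap.range u := by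
    rw [Submodule.localized'_eq_span]
    refine le_antisymm (Submodule.span_le.2 ?_) ?_
    · rintro _ ⟨_, ⟨z, rfl⟩, rfl⟩
      rw [SetLike.mem_coe, hus']
      exact Submodule.smul_mem _ _ ⟨_, rfl⟩
    · rintro _ ⟨x, rfl⟩
      obtain ⟨⟨z, t⟩, hz⟩ := IsLocalizedModule.surj q.primeCompl gM x
      have ht : IsUnit (algebraMap B S s * algebraMap B S t) := hsu.mul (IsLocalization.map_units S t)
      obtain ⟨v, hv⟩ := ht
      have : gN (u₀ z) = (v : S) • u x := by
        rw [hv, hus', mul_smul, ← map_smul u (algebraMap B S (t : B)), algebraMap_smul S (t : B) x]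
        rw [show (t : B) • x = gM z from hz]
      rw [show u x = ((v⁻¹ : Sˣ) : S) • gN (u₀ z) by rw [this, smul_smul, Units.inv_mul, one_smul]]
      exact Submodule.smul_mem _ _ (Submodule.subset_span ⟨u₀ z, ⟨z, rfl⟩, rfl⟩)
  let toQ : (N₀ ⧸ LinearMap.range u₀) →ₗ[B] N ⧸ LinearMap.range u :=
    ((Submodule.quotEquivOfEq _ _ hrange).restrictScalars B).toLinearMap ∘ₗ
      (LinearMap.range u₀).toLocalizedQuotient' S q.primeCompl gN
  haveI : IsLocalizedModule q.primeCompl toQ := IsLocalizedModule.of_linearEquiv _ _ _
  haveI : Module.FinitePresentation B (N₀ ⧸ LinearMap.range u₀) :=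
    Module.finitePresentation_of_surjective (LinearMap.range u₀).mkQ (Submodule.mkQ_surjective _)
      (by rw [Submodule.ker_mkQ, LinearMap.range_eq_map]; exact (Module.Finite.fg_top).map _)
  let eQ : LocalizedModule q.primeCompl (N₀ ⧸ LinearMap.range u₀) ≃ₗ[R] N ⧸ LinearMap.range u :=
    (IsLocalizedModule.iso q.primeCompl toQ).restrictScalars R
  have hQ : Function.Injective (m.subtype.lTensor (N ⧸ LinearMap.range u)) := by
    rw [injective_iff_map_eq_zero]
    intro z hz
    let π : N →ₗ[R] N ⧸ LinearMap.range u := (LinearMap.range u).mkQ.restrictScalars R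
    obtain ⟨z', rfl⟩ := LinearMap.rTensor_surjective m (g := π) (Submodule.mkQ_surjective _) z
    have hz0 : π (TensorProduct.rid R N (m.subtype.lTensor N z')) = 0 := by
      rw [← rid_natural, hz, map_zero]
    obtain ⟨x, hx⟩ := (Submodule.Quotient.mk_eq_zero _).1 hz0
    have hmem : u x ∈ m.map (algebraMap R S) • (⊤ : Submodule S N) := by
      rw [hx]; exact rid_mem m _ ⟨z', rfl⟩
    obtain ⟨w, hw⟩ := exists_rid_eq m (hu x hmem)
    have hzw : z' = (u.restrictScalars R).rTensor m w := by
      apply Module.Flat.lTensor_preserves_injective_linearMap (M := N) m.subtype m.subtype_injective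
      apply (TensorProduct.rid R N).injective
      rw [rid_natural, hw]
      exact hx.symm
    rw [hzw, ← LinearMap.rTensor_comp_apply,
      show π ∘ₗ u.restrictScalars R = 0 from LinearMap.ext fun y => (Submodule.Quotient.mk_eq_zero _).2 ⟨y, rfl⟩,
      LinearMap.rTensor_zero, LinearMap.zero_apply]
  haveI hflatloc : Module.Flat R (LocalizedModule q.primeCompl (N₀ ⧸ LinearMap.range u₀)) :=
    flat_of_lTensor_injective_fp q (by
      rw [hqm]
      have key : ∀ y, eQ.toLinearMap.rTensor R (m.subtype.lTensor _ y) = m.subtype.lTensor _ (eQ.toLinearMap.rTensor m y) :=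
        fun y => by rw [← LinearMap.comp_apply, ← LinearMap.comp_apply, LinearMap.rTensor_comp_lTensor, LinearMap.lTensor_comp_rTensor]
      intro y y' hy
      have h2 := hQ (show m.subtype.lTensor _ (eQ.toLinearMap.rTensor m y) = m.subtype.lTensor _ (eQ.toLinearMap.rTensor m y') by
        rw [← key, ← key, hy])
      exact (LinearEquiv.rTensor m eQ).injective h2)
  haveI hQflat : Module.Flat R (N ⧸ LinearMap.range u) := Module.Flat.of_linearEquiv eQ.symm
  refine ⟨?_, hQflat⟩
  obtain ⟨G, hG0, hG⟩ := exists_ker_generators u₀ ⟨q, inferInstance⟩ hflatloc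
  have hfg : (LinearMap.ker u).FG := by
    refine ⟨G.image gM, le_antisymm (Submodule.span_le.2 ?_) fun x hx => ?_⟩
    · intro y hy
      obtain ⟨g, hg, rfl⟩ := Finset.mem_image.1 (Finset.mem_coe.1 hy)
      obtain ⟨v, hv⟩ := hsu
      show u (gM g) = 0
      rw [← one_smul S (u (gM g)), ← Units.inv_mul v, mul_smul, hv, ← hus', hG0 g hg, map_zero, smul_zero]
    · obtain ⟨⟨z, t⟩, hz⟩ := IsLocalizedModule.surj q.primeCompl gM x
      have h0 : gN (u₀ z) = gN 0 := by
        rw [map_zero, hus', ← show (t : B) • x = gM z from hz, LinearMap.map_smul_of_tower, show u x = 0 from hx,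
          smul_zero, smul_zero]
      obtain ⟨c, hc⟩ := IsLocalizedModule.exists_of_eq (S := q.primeCompl) (f := gN) h0
      obtain ⟨s', hs', hspan⟩ := hG ((c : B) • z) (by rw [map_smul]; simpa [Submonoid.smul_def] using hc)
      have h1 := Submodule.mem_map_of_mem (f := gM) hspan
      rw [Submodule.map_span, map_smul, map_smul, ← show (t : B) • x = gM z from hz, ← Finset.coe_image] at h1
      have h2 := Submodule.span_le_restrictScalars B S _ h1
      rw [Submodule.restrictScalars_mem, smul_smul, smul_smul, ← algebraMap_smul S] at h2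
      have hu3 : IsUnit (algebraMap B S (s' * (c : B) * (t : B))) := by
        rw [map_mul, map_mul]
        exact ((IsLocalization.map_units S (⟨s', hs'⟩ : q.primeCompl)).mul (IsLocalization.map_units S c)).mul
          (IsLocalization.map_units S t)
      obtain ⟨v, hv⟩ := hu3
      rw [← hv] at h2
      simpa using Submodule.smul_mem _ ((v⁻¹ : Sˣ) : S) h2
  haveI : Module.Flat R ((LinearMap.range u).restrictScalars R) := by
    haveI : Module.Flat R (N ⧸ (LinearMap.range u).restrictScalars R) :=
      Module.Flat.of_linearEquiv (Submodule.Quotient.restrictScalarsEquiv R (LinearMap.range u))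
    exact Groth.Agent.FlatCx.flat_of_flat_quotient _
  have hbot : LinearMap.ker u = ⊥ := by
    refine Submodule.eq_bot_of_le_smul_of_le_jacobson_bot (m.map (algebraMap R S)) _ hfg (fun x hx => ?_) ?_
    · obtain ⟨w, hw⟩ := exists_rid_eq m (hu x (by rw [show u x = 0 from hx]; exact zero_mem _))
      let u' : M →ₗ[R] (LinearMap.range u).restrictScalars R := u.rangeRestrict.restrictScalars R
      let ι : LinearMap.ker u →ₗ[R] M := (LinearMap.ker u).subtype.restrictScalars R
      have hw0 : u'.rTensor m w = 0 := by
        apply Module.Flat.lTensor_preserves_injective_linearMap (M := ((LinearMap.range u).restrictScalars R)) m.subtype m.subtype_injective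
        apply (TensorProduct.rid R _).injective
        rw [rid_natural, hw, map_zero, map_zero]
        exact Subtype.ext hx
      have hex : Function.Exact ι u' := fun y => by
        refine ⟨fun hy => ⟨⟨y, congrArg Subtype.val hy⟩, rfl⟩, ?_⟩
        rintro ⟨y', rfl⟩
        exact Subtype.ext y'.2
      obtain ⟨w', hw'⟩ := (rTensor_exact m hex u.surjective_rangeRestrict w).1 hw0
      rw [← hw, ← hw', rid_natural]
      have := Submodule.mem_map_of_mem (f := (LinearMap.ker u).subtype) (rid_mem m (TensorProduct.rid R _ (m.subtype.lTensor _ w')) ⟨w', rfl⟩)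
      rwa [Submodule.map_smul'', Submodule.map_subtype_top] at this
    · rw [IsLocalRing.jacobson_eq_maximalIdeal ⊥ bot_ne_top]
      exact Ideal.map_le_iff_le_comap.2 fun r hr h => hr ((isUnit_map_iff (algebraMap R S) r).1 h)
  exact LinearMap.ker_eq_bot.1 hbot

end Groth.Agent.EssFPLib
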