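import Mathlib
import Groth.Agent.EssFPLib.Model
import Groth.Agent.FlatLocus.Fibrewise
import Groth.Agent.FlatLocus.FibreCritMod

/-!
# The fibrewise criterion of flatness, essentially finitely presented case
-/

set_option autoImplicit false
set_option linter.unusedSectionVars false
set_option linter.style.haveILetI false
set_option backward.isDefEq.respectTransparency false
set_option backward.defeqAttrib.useBackward true

noncomputable section

universe u

open Groth.Agent.FlatLocus

open scoped TensorProduct

namespace Groth.Agent.EssFPLib

theorem fibre_criterion {R S S' M : Type u} [CommRing R] [CommRing S] [CommRing S']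
    [IsLocalRing R] [IsLocalRing S] [IsLocalRing S'] [Algebra R S] [Algebra S S'] [Algebra R S'] [IsScalarTower R S S']
    [IsLocalHom (algebraMap R S)] [IsLocalHom (algebraMap S S')]
    (hS : CAlgX.IsEssFinitePresentation R S) (hS' : CAlgX.IsEssFinitePresentation R S')
    [AddCommGroup M] [Module S' M] [Module S M] [Module R M] [IsScalarTower S S' M] [IsScalarTower R S' M]
    [IsScalarTower R S M] [Module.FinitePresentation S' M] [Nontrivial M] [Module.Flat R M]
    (hfib : Module.Flat (S ⧸ (IsLocalRing.maximalIdeal R).map (algebraMap R S))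
      (M ⧸ (IsLocalRing.maximalIdeal R).map (algebraMap R S) • (⊤ : Submodule S M))) :
    Module.Flat R S ∧ Module.Flat S M := by
  obtain ⟨B, _, _, _, _, T, hB, _⟩ := isEssFinitePresentation_of_tower hS hS'
  let q : Ideal B := (IsLocalRing.maximalIdeal S').comap (algebraMap B S')
  haveI : q.IsPrime := Ideal.IsPrime.comap _
  haveI : IsLocalization q.primeCompl S' := isLocalization_atPrime T
  letI : Module B M := Module.compHom M (algebraMap B S')
  haveI : IsScalarTower B S' M := .of_algebraMap_smul fun _ _ => rfl
  haveI : IsScalarTower S B M := .of_algebraMap_smul fun r x => by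
    show algebraMap B S' (algebraMap S B r) • x = r • x
    rw [← IsScalarTower.algebraMap_apply S B S', algebraMap_smul]
  let J := IsLocalRing.maximalIdeal S
  have hqJ : q.comap (algebraMap S B) = J := by
    rw [Ideal.comap_comap, ← IsScalarTower.algebraMap_eq]
    ext r
    exact ⟨fun h hu => h (hu.map _), fun h hu => h ((isUnit_map_iff (algebraMap S S') r).1 hu)⟩
  obtain ⟨M₀, _, _, _, gM, _⟩ := exists_module_model q.primeCompl M (L := S')
  letI : Module S M₀ := Module.compHom M₀ (algebraMap S B)
  haveI : IsScalarTower S B M₀ := .of_algebraMap_smul fun _ _ => rfl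
  let m := IsLocalRing.maximalIdeal R
  let I := m.map (algebraMap R S)
  haveI : Module.Flat (S ⧸ I) ((S ⧸ I) ⊗[S] M) :=
    haveI := hfib
    Module.Flat.of_linearEquiv
      ((TensorProduct.quotTensorEquivQuotSMul M I).extendScalarsOfSurjective Ideal.Quotient.mk_surjective)
  have hIJ : I ≤ J := Ideal.map_le_iff_le_comap.2 fun r hr h => hr ((isUnit_map_iff (algebraMap R S) r).1 h)
  have hinj : Function.Injective (J.subtype.lTensor M) :=
    lTensor_injective_of_fibre m J hIJ (lTensor_injective_of_flat_quotient _ _)
  let e : LocalizedModule q.primeCompl M₀ ≃ₗ[S] M := (IsLocalizedModule.iso q.primeCompl gM).restrictScalars S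
  haveI : Module.Flat S (LocalizedModule q.primeCompl M₀) :=
    flat_of_lTensor_injective_fp q (by
      rw [hqJ]
      have key : ∀ y, e.toLinearMap.rTensor S (J.subtype.lTensor _ y) = J.subtype.lTensor _ (e.toLinearMap.rTensor J y) :=
        fun y => by rw [← LinearMap.comp_apply, ← LinearMap.comp_apply, LinearMap.rTensor_comp_lTensor, LinearMap.lTensor_comp_rTensor]
      intro y y' hy
      exact (LinearEquiv.rTensor J e).injective
        (hinj (show J.subtype.lTensor _ (e.toLinearMap.rTensor J y) = J.subtype.lTensor _ (e.toLinearMap.rTensor J y') by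
          rw [← key, ← key, hy])))
  haveI hSM : Module.Flat S M := Module.Flat.of_linearEquiv e.symm
  haveI : Module.FaithfullyFlat S M := faithfullyFlat_of_isLocalRing S S' M
  exact ⟨flat_of_faithfullyFlat_module R S M, hSM⟩

end Groth.Agent.EssFPLib
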